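import Cfsg.Agent.Lib.ToddCox.Glue
set_option autoImplicit false
set_option maxRecDepth 100000
namespace Cfsg.Agent.Lib.ToddCox.Fi23C4
def E_0 : ℕ := 0x61800001800001860000060000061400001800001850000060000061000001800001840000060000060c00001800001830000060000060800001800001820000060000051800001400001460000050000051400001400001450000050000051000001400001440000050000050c00001400001430000050000041800001000001060000040000041400001000001050000040000041000001000001040000040000040400001000001010000040000031800000c00000c60000030000031400000c00000c50000030000030800000c00000c20000030000030400000c00000c10000030000021800000800000860000020000020c00000800000830000020000020800000800000820000020000020400000800000810000020000011000000400000440000010000010c00000400000430000010000010800000400000420000010000010400000400000410000010000001400000000000050000000000001000000000000040000000000000c00000000000030000000000000800000000000020000000000000400000000000010000000000050400001800001810000050000040800001400001420000040000030c00001000001030000030000021000000c00000c4000002000001140000080000085000001000000180000040000046000000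
end Cfsg.Agent.Lib.ToddCox.Fi23C4
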