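import Cfsg.Agent.Lib.ToddCox.Fi23C4.Data
set_option autoImplicit false
set_option maxRecDepth 100000
namespace Cfsg.Agent.Lib.ToddCox.Fi23C4
theorem wordsGood : allBelow (wordsOK W (relR Rb inv) inv sp) nW 5 = true := by decide +kernel
theorem d0 : allBits (fun k => bif Nat.blt k 6 then chkDef Eo inv k else true) 13 0 = true := by decide +kernel
theorem s0 : chkStream Eo inv W isH 30 6 0x2800007800000b00000c000002800007400000b00000b800002800007000000b00000b000002800006c00000b00000a800002800001000002e000004800002c00002800000800001a00000240000260000080000190000024000024000008000018000002400002200000800000300000a000000e000009000008000001800005800000700000780000180000540000070000070000018000008000022000002800001c00001a000006000013000001c000018000004000012000001400001600000400000100000700000060000050000050000010000040000005000004800001000003c0000050000040000008000000000015000000800000c00000e00000200000d000000c00000c00000200000c000000c00000a00000200000b000000c0000080000000000098000004000006000000000008800000400000400000000000780000040000020000000000068000004000001fffffffffffffffffffffffffffffff = true := by decide +kernel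
theorem c0 : Covered Eo inv W isH 6 36 := covered_of_stream 30 6 _ s0
theorem l0 : chkPoints Eo cF (2 * nEv) N ys 7 0 0x23800001800008a000006000021800001800008200000600001f800001800001600000500001e800001400007600000500001c800001400006e000005000004800001000001400000600001a8000010000066000004000018800001000000e000003000004000001400005e000004000016800000c000056000003000002800000800000c000004000014800000c00004e0000030000128000008000006000001000002000000c000046000002000010800000800003e000002000000800000000000400000200000e800000400003600000100000c800000400002e000001000000000000400002800000000000900000000000200000000000070000000000018000000 = true := by decide +kernel
theorem k0 : LinksOK Eo cF (2 * nEv) N ys 0 7 := linksOK_of_points 7 0 _ l0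
end Cfsg.Agent.Lib.ToddCox.Fi23C4
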